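import Cfsg.Agent.Lib.Spor.Fi23Norm.Defs
import Cfsg.Agent.Lib.Spor.Fi23Norm.PathsA1
/-!
Certificate for the centralisers of the elements of order seventeen and sixteen.
-/

set_option autoImplicit false
set_option Elab.async false

namespace CfsgLib.Spor.Fi23Norm

open CfsgLib.PresCert CfsgLib.SporOut CfsgLib.Spor.Fi23 CfsgLib.Spor.Fi23.Auto

theorem repsA1 : repsOk colA colRA patA orbA pathsA1 466 = true := by decide +kernel

theorem lenA1 : pathsA1.length = 466 := by decide +kernel

end CfsgLib.Spor.Fi23Norm
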