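import Cfsg.Agent.Lib.Spor.Fi23Norm.Defs

/-!
Certificate for the centralisers of the elements of order seventeen and sixteen.
-/

set_option autoImplicit false
set_option Elab.async false

namespace CfsgLib.Spor.Fi23Norm

open CfsgLib.PresCert CfsgLib.SporOut CfsgLib.Spor.Fi23 CfsgLib.Spor.Fi23.Auto

theorem closeA : closeOk stepsA orbA = true := by decide +kernel

theorem closeB : closeOk stepsB (orbB.take 16) = true := by decide +kernel

theorem gen_ok : genOk stepsG [endOf pathE] = true := by decide +kernel

theorem triB : trisOk orbB triPaths = true := by decide +kernel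

theorem orbA_closed : orbA.all (fun q => orbA.any (Nat.beq (Tab.lk colA q))) = true := by
  decide +kernel

theorem orbB_closed : orbB.all (fun q => orbB.any (Nat.beq (Tab.lk colB q))) = true := by
  decide +kernel

theorem listA : (List.range 17).all (fun i => Nat.beq (it colA i (orbA.getD 0 0)) (orbA.getD i 0))
    = true := by decide +kernel

theorem listB : (List.range 16).all (fun i =>
    Nat.beq (it colB i (orbB.getD 0 0)) (orbB.getD i 0) &&
    Nat.beq (dP pathE (it colB i (orbB.getD 0 0))) (orbB.getD (16 + i) 0)) = true := by
  decide +kernel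

theorem pointE : (okPath pathE && okPath pathX && okPath pathY &&
    WW.all (fun k => Nat.blt k 10) && Nat.beq (wImg WW (elPt 0)) (endOf pathE) &&
    Nat.beq (Tab.lk colB (endOf pathE)) (endOf pathE)) = true := by
  decide +kernel

theorem conjW : (List.range 10).all (fun k => Nat.beq (xImg pathX BPW (elPt k))
    (wImg WW.reverse (Tab.lk colB (wImg WW (elPt k))))) = true := by decide +kernel

theorem conjH : (List.range 10).all (fun k => Nat.beq
    (xImg pathY ((BPW.filter fun l => !(Nat.beq l 0)) ++ [0]) (wImg HW (elPt k)))
    (wImg HW (it colB 15 (elPt k)))) = true := by decide +kernel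

theorem base_ok : (okPath pathXA && Nat.beq (endOf pathXA) (orbA.getD 0 0) &&
    candW colA pathXA (orbA.getD 0 0) patA &&
    okPath pathXB && Nat.beq (endOf pathXB) (orbB.getD 0 0) &&
    candW colB pathXB (orbB.getD 0 0) patB &&
    okPath pathRB && Nat.beq (endOf pathRB) (dP pathXB (it colB 3 (orbB.getD 0 0)))) = true := by
  decide +kernel

theorem moves : (!Nat.beq (it colA 1 (orbA.getD 0 0)) (orbA.getD 0 0) &&
    !Nat.beq (it colB 8 (orbB.getD 0 0)) (orbB.getD 0 0)) = true := by decide +kernel

end CfsgLib.Spor.Fi23Norm
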