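import Cfsg.Agent.Lib.Spor.Fi23Norm.Cover
import Cfsg.Agent.Lib.Spor.Fi23Norm.ChkPA0
import Cfsg.Agent.Lib.Spor.Fi23Norm.ChkPA1
import Cfsg.Agent.Lib.Spor.Fi23Norm.ChkPA2
import Cfsg.Agent.Lib.Spor.Fi23Norm.ChkPA3
import Cfsg.Agent.Lib.Spor.Fi23Norm.ChkPB0
import Cfsg.Agent.Lib.Spor.Fi23Norm.ChkPB1
import Cfsg.Agent.Lib.Spor.Fi23Norm.ChkPB2
import Cfsg.Agent.Lib.Spor.Fi23Norm.ChkPB3
import Cfsg.Agent.Lib.Spor.Fi23Norm.ChkCov
import Cfsg.Agent.Lib.Spor.Fi23Norm.ChkS

/-!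
The centralisers in Fi23 of an element of order seventeen and of an element of order sixteen.
-/

set_option autoImplicit false

namespace CfsgLib.Spor.Fi23Norm

open CfsgLib.PresCert CfsgLib.SporOut.Tab CfsgLib.Spor.Fi23 CfsgLib.Spor.Fi23.Auto Cfsg.Spor

local notation "N" => Perm.data.n
local notation "F" => Cfsg.Spor.Fi23

theorem repsA (k : ℕ) (hk : k < 1863) : ∃ pc, repOk colA patA orbA pc (lk colRA k) = true := by
  rcases (by omega : k < 466 ∨ 466 ≤ k ∧ k < 932 ∨ 932 ≤ k ∧ k < 1398 ∨ 1398 ≤ k) with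
    h | h | h | h
  · simpa using repsOk_get _ _ repsA0 k (by rw [lenA0]; exact h)
  · have := repsOk_get _ _ repsA1 (k - 466) (by rw [lenA1]; omega)
    rwa [show 466 + (k - 466) = k by omega] at this
  · have := repsOk_get _ _ repsA2 (k - 932) (by rw [lenA2]; omega)
    rwa [show 932 + (k - 932) = k by omega] at this
  · have := repsOk_get _ _ repsA3 (k - 1398) (by rw [lenA3]; omega)
    rwa [show 1398 + (k - 1398) = k by omega] at this

theorem repsB (k : ℕ) (hk : k < 1993) : ∃ pc, repOk colB patB orbB pc (lk colRB k) = true := by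
  rcases (by omega : k < 499 ∨ 499 ≤ k ∧ k < 998 ∨ 998 ≤ k ∧ k < 1497 ∨ 1497 ≤ k) with
    h | h | h | h
  · simpa using repsOk_get _ _ repsB0 k (by rw [lenB0]; exact h)
  · have := repsOk_get _ _ repsB1 (k - 499) (by rw [lenB1]; omega)
    rwa [show 499 + (k - 499) = k by omega] at this
  · have := repsOk_get _ _ repsB2 (k - 998) (by rw [lenB2]; omega)
    rwa [show 998 + (k - 998) = k by omega] at this
  · have := repsOk_get _ _ repsB3 (k - 1497) (by rw [lenB3]; omega)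
    rwa [show 1497 + (k - 1497) = k by omega] at this

theorem orbA_lt : ∀ r ∈ orbA, r < N := by rw [Fi23.degree]; decide

theorem orbB_lt : ∀ r ∈ orbB, r < N := by rw [Fi23.degree]; decide

/-- the base point of the first orbit -/
noncomputable def xA : Fin N := ⟨orbA.getD 0 0, by rw [Fi23.degree]; decide⟩

/-- the base point of the second orbit -/
noncomputable def xB : Fin N := ⟨orbB.getD 0 0, by rw [Fi23.degree]; decide⟩

theorem bases : (okPath pathXA = true ∧ endOf pathXA = xA ∧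
      candW colA pathXA xA patA = true) ∧
    (okPath pathXB = true ∧ endOf pathXB = xB ∧ candW colB pathXB xB patB = true) ∧
    (okPath pathRB = true ∧ endOf pathRB = dP pathXB (it colB 3 xB)) := by
  have h := base_ok
  simp only [Bool.and_eq_true, Nat.beq_eq] at h
  obtain ⟨⟨⟨⟨⟨⟨⟨h1, h2⟩, h3⟩, h4⟩, h5⟩, h6⟩, h7⟩, h8⟩ := h
  exact ⟨⟨h1, h2, h3⟩, ⟨h4, h5, h6⟩, h7, h8⟩

theorem pat_xA : Pat fA patA xA :=
  (candW_iff π_fA bases.1.1 bases.1.2.1 patA).1 bases.1.2.2

theorem pat_xB : Pat fB patB xB :=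
  (candW_iff π_fB bases.2.1.1 bases.2.1.2.1 patB).1 bases.2.1.2.2

theorem fA_ne : fA ≠ 1 := by
  intro e
  have h := moves
  simp only [Bool.and_eq_true, Bool.not_eq_true'] at h
  have h1 : it colA 1 (xA : ℕ) = xA := by rw [← π_pow π_fA, e, one_pow, map_one]; rfl
  exact Nat.ne_of_beq_eq_false h.1 h1

theorem orderOf_fA : orderOf fA = 17 :=
  haveI : Fact (Nat.Prime 17) := ⟨by norm_num⟩
  orderOf_eq_prime fA_pow fA_ne

theorem orderOf_fB : orderOf fB = 16 := by
  refine orderOf_eq_prime_pow (p := 2) (n := 3) (fun e => ?_) fB_pow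
  have h := moves
  simp only [Bool.and_eq_true, Bool.not_eq_true'] at h
  have h1 : it colB 8 (xB : ℕ) = xB := by
    rw [← π_pow π_fB, show (8 : ℕ) = 2 ^ 3 by rfl, e, map_one]; rfl
  exact Nat.ne_of_beq_eq_false h.2 h1

theorem list_A {i : ℕ} (hi : i < 17) : ((π (fA ^ i) xA : Fin N) : ℕ) = orbA.getD i 0 := by
  have := List.all_eq_true.1 listA i (List.mem_range.2 hi)
  rw [Nat.beq_eq] at this
  rw [π_pow π_fA]
  exact this

theorem list_B {i : ℕ} (hi : i < 16) : ((π (fB ^ i) xB : Fin N) : ℕ) = orbB.getD i 0 ∧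
    ((π (fE * fB ^ i) xB : Fin N) : ℕ) = orbB.getD (16 + i) 0 := by
  have := List.all_eq_true.1 listB i (List.mem_range.2 hi)
  simp only [Bool.and_eq_true, Nat.beq_eq] at this
  constructor
  · rw [π_pow π_fB]; exact this.1
  · rw [map_mul, Equiv.Perm.mul_apply, π_fE, π_pow π_fB]; exact this.2

theorem getD_of_getElem {l : List ℕ} {i v : ℕ} (hi : i < l.length) (h : l[i] = v) :
    l.getD i 0 = v := by
  rw [List.getD_eq_getElem?_getD, List.getElem?_eq_getElem hi, h]; rfl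

/-- the centraliser of the element of order seventeen -/
theorem cent_fA {g : F} (hg : g * fA = fA * g) : ∃ i : ℕ, g = fA ^ i := by
  have hm : ((π g xA : Fin N) : ℕ) ∈ orbA :=
    pat_mem π_fA covA repsA orbA_closed ((pat_map hg _ _).2 pat_xA)
  obtain ⟨i, hi, hiv⟩ := List.getElem_of_mem hm
  have hi' : i < 17 := by simpa [orbA] using hi
  refine ⟨i, (inv_mul_eq_one.1 ?_).symm⟩
  have hcomm : (fA ^ i)⁻¹ * g * fA = fA * ((fA ^ i)⁻¹ * g) := by
    rw [mul_assoc, hg, ← mul_assoc, ← mul_assoc, ((Commute.refl fA).pow_left i).inv_left.eq]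
  have hfix : π ((fA ^ i)⁻¹ * g) xA = xA := by
    rw [map_mul, Equiv.Perm.mul_apply, map_inv, Equiv.Perm.inv_eq_iff_eq]
    refine Fin.ext ?_
    rw [list_A hi', getD_of_getElem hi hiv]
  refine closeOk_fix _ _ closeA (fun p hp => ?_) orbA_lt
  obtain ⟨k, hk, hkp⟩ := List.getElem_of_mem hp
  obtain rfl : p = π (fA ^ k) xA := Fin.ext (by
    rw [list_A (by simpa [orbA] using hk), getD_of_getElem hk hkp])
  rw [comm_apply hcomm, hfix]

set_option maxRecDepth 20000 in
/-- the centraliser of the element of order sixteen -/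
theorem cent_fB {g : F} (hg : g * fB = fB * g) :
    ∃ i : ℕ, i < 16 ∧ (g = fB ^ i ∨ g = fE * fB ^ i) := by
  have hm : ((π g xB : Fin N) : ℕ) ∈ orbB :=
    pat_mem π_fB covB repsB orbB_closed ((pat_map hg _ _).2 pat_xB)
  have key : ∀ u : F, u * fB = fB * u → π u xB = π g xB → g = u := by
    intro u hu he
    refine (inv_mul_eq_one.1 ?_).symm
    have hcomm : u⁻¹ * g * fB = fB * (u⁻¹ * g) := by
      rw [mul_assoc, hg, ← mul_assoc, ← mul_assoc, (show Commute u fB from hu).inv_left.eq]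
    have hfix : π (u⁻¹ * g) xB = xB := by
      rw [map_mul, Equiv.Perm.mul_apply, map_inv, Equiv.Perm.inv_eq_iff_eq, he]
    refine closeOk_fix _ _ closeB (fun p hp => ?_)
      fun r hr => orbB_lt r (List.mem_of_mem_take hr)
    obtain ⟨k, hk, hkp⟩ := List.getElem_of_mem hp
    have hk16 : k < 16 := by simpa [orbB] using hk
    rw [List.getElem_take] at hkp
    have hlen : k < orbB.length := by have : orbB.length = 32 := rfl; omega
    obtain rfl : p = π (fB ^ k) xB :=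
      Fin.ext ((list_B hk16).1.trans (getD_of_getElem hlen hkp)).symm
    rw [comm_apply hcomm, hfix]
  obtain ⟨i, hi, hiv⟩ := List.getElem_of_mem hm
  have hget := getD_of_getElem hi hiv
  rcases lt_or_ge i 16 with h | h
  · exact ⟨i, h, Or.inl (key _ ((Commute.refl fB).pow_left i).eq
      (Fin.ext ((list_B h).1.trans hget)))⟩
  · obtain ⟨k, rfl⟩ : ∃ k, i = 16 + k := ⟨i - 16, by omega⟩
    have hk : k < 16 := by simp [orbB] at hi; omega
    exact ⟨k, hk, Or.inr (key _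
      ((show Commute fE fB from fE_comm.symm).mul_left ((Commute.refl fB).pow_left k)).eq
      (Fin.ext ((list_B hk).2.trans hget)))⟩

theorem trisOk_get : ∀ (qs : List ℕ) (ps : List (ℕ × ℕ)), trisOk qs ps = true →
    ∀ q ∈ qs, ∃ p, triOk q p = true
  | [], _, _, q, hq => by simp at hq
  | _ :: _, [], h, _, _ => by simp [trisOk] at h
  | q' :: qs, p :: ps, h, q, hq => by
    simp only [trisOk, Bool.and_eq_true] at h
    rcases List.mem_cons.1 hq with rfl | hq
    · exact ⟨p, h.1⟩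
    · exact trisOk_get qs ps h.2 q hq

/-- no element inverts the element of order sixteen -/
theorem not_inverted (g : F) : g * fB * g⁻¹ ≠ fB⁻¹ := by
  intro hg
  have step : ∀ (k : ℕ), k ≤ 16 → ∀ q : Fin N,
      π g (π (fB ^ k) q) = π (fB ^ (16 - k)) (π g q) := by
    intro k hk q
    have e : g * fB ^ k = fB ^ (16 - k) * g := by
      refine mul_inv_eq_iff_eq_mul.1 ?_
      rw [← conj_pow, hg, inv_pow, inv_eq_iff_mul_eq_one, ← pow_add, Nat.add_sub_cancel' hk, fB_pow]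
    rw [← Equiv.Perm.mul_apply, ← Equiv.Perm.mul_apply, ← map_mul, ← map_mul, e]
  have small : ∀ e ∈ patB, e.1 ≤ 16 := by decide
  have hcand : Pat fB patB (π g xB) := by
    intro e he
    have h16 := small e he
    have hback : π (fB ^ e.1) (π (fB ^ (16 - e.1)) (π g xB)) = π g xB := by
      rw [← Equiv.Perm.mul_apply (π (fB ^ e.1)), ← map_mul, ← pow_add, Nat.add_sub_cancel' h16, fB_pow,
        map_one, Equiv.Perm.one_apply]
    rw [← pat_xB e he, ← rel_map g xB, step e.1 h16,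
      ← rel_map (fB ^ e.1) (π g xB) (π (fB ^ (16 - e.1)) (π g xB)), hback, rel_symm]
  have hm := pat_mem π_fB covB repsB orbB_closed hcand
  obtain ⟨⟨pc, rc⟩, hp⟩ := trisOk_get _ _ triB _ hm
  simp only [triOk, Bool.and_eq_true, Nat.beq_eq] at hp
  obtain ⟨⟨⟨⟨hok, hrok⟩, he⟩, hre⟩, hne⟩ := hp
  obtain ⟨-, ⟨hxok, hxe, -⟩, hRok, hRe⟩ := bases
  have iL := relP_iff hRok (p := π (dq xB) (π (fB ^ 3) xB))
    (by rw [hRe, π_dP hxok hxe, π_pow π_fB]) (π (fB ^ 9) xB)
  have iR := relP_iff hrok (p := π (dq (π g xB)) (π (fB ^ 13) (π g xB)))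
    (by rw [hre, π_dP hok he, π_pow π_fB]) (π (fB ^ 7) (π g xB))
  have heq : Rel (π (dq (π g xB)) (π (fB ^ 13) (π g xB))) (π (fB ^ 7) (π g xB)) ↔
      Rel (π (dq xB) (π (fB ^ 3) xB)) (π (fB ^ 9) xB) := by
    conv_rhs => rw [← rel_map g, dq_map, step 3 (by omega), step 9 (by omega)]
  rw [π_pow π_fB 9, ← hxe] at iL
  rw [π_pow π_fB 7] at iR
  cases hL : relP pathRB (it colB 9 (endOf pathXB)) <;>
    cases hR : relP rc (it colB 7 ((π g xB : Fin N) : ℕ)) <;> simp_all

/-- the two products of transpositions are not conjugate -/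
theorem not_conjugate (m : F) :
    m * xEl okE.2.1 BPW * m⁻¹ ≠ xEl okE.2.2.1 ((BPW.filter fun l => !(Nat.beq l 0)) ++ [0]) := by
  intro hm
  refine not_inverted ((wEl HW)⁻¹ * m * fW⁻¹) ?_
  have h15 : fB ^ 15 = fB⁻¹ := by
    refine (inv_eq_of_mul_eq_one_left ?_).symm
    rw [← pow_succ, fB_pow]
  calc (wEl HW)⁻¹ * m * fW⁻¹ * fB * ((wEl HW)⁻¹ * m * fW⁻¹)⁻¹
      = (wEl HW)⁻¹ * (m * (fW⁻¹ * fB * fW) * m⁻¹ * wEl HW) := by group
    _ = fB⁻¹ := by rw [← fB_conjW, hm, fB_conjH, h15, inv_mul_cancel_left]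

end CfsgLib.Spor.Fi23Norm
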