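import Cfsg.Agent.Lib.Spor.Fi23Norm.Defs

/-!
Certificate for the centralisers of the elements of order seventeen and sixteen.
-/

set_option autoImplicit false
set_option Elab.async false

namespace CfsgLib.Spor.Fi23Norm

open CfsgLib.PresCert CfsgLib.SporOut CfsgLib.Spor.Fi23 CfsgLib.Spor.Fi23.Auto

theorem b_ok1 : onRange 4000 4000 bAt = true := by decide +kernel

end CfsgLib.Spor.Fi23Norm
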