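import Cfsg.Agent.Lib.Spor.Fi23Norm.ExtraData

/-!
Certificate for the further tests.
-/

set_option autoImplicit false
set_option Elab.async false

namespace CfsgLib.Spor.Fi23Norm

open CfsgLib.PresCert CfsgLib.SporOut CfsgLib.Spor.Fi23 CfsgLib.Spor.Fi23.Auto

theorem fix_ok : allBelow Perm.data.n fixAt = true := by decide +kernel

theorem conjB : (List.range 10).all (fun k => Nat.beq (wImg HB (wImg BW0 (elPt k)))
    (it colB 5 (wImg HB (elPt k)))) = true := by decide +kernel

theorem ordAE : (List.range 10).all (fun k => Nat.beq (itAE (fun i => dP pathE i) 10 (elPt k))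
    (elPt k)) = true := by decide +kernel

theorem ordAEB : (List.range 10).any (fun k => !Nat.beq
    (itAE (fun i => dP pathE (it colB 8 i)) 10 (elPt k)) (elPt k)) = true := by decide +kernel

theorem orbB_sep : (List.range 16).all (fun i => !Nat.beq (orbB.getD i 0) (orbB.getD 16 0)) = true := by
  decide +kernel

theorem ptsXY : (Nat.beq (wImg CX (elPt 0)) (endOf pathX) && Nat.beq (wImg CY (elPt 0)) (endOf pathY) &&
    relP pathY (elPt 0) && (CX ++ CY).all (fun k => Nat.blt k 10) && BW0.all (fun k => Nat.blt k 10) &&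
    AW.all (fun k => Nat.blt k 10) &&
    BPW.all (fun k => !Nat.beq k 1 && (Nat.blt k 10 || Nat.beq k 11))) = true := by decide +kernel

end CfsgLib.Spor.Fi23Norm
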