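import Cfsg.Agent.Lib.Spor.Fi23Norm.Elements

/-!
Points with a given pattern along the orbits of an element.
-/

set_option autoImplicit false

namespace CfsgLib.Spor.Fi23Norm

open CfsgLib.PresCert CfsgLib.SporOut.Tab CfsgLib.Spor.Fi23 CfsgLib.Spor.Fi23.Auto Cfsg.Spor

local notation "N" => Perm.data.n
local notation "F" => Cfsg.Spor.Fi23

/-- the pattern of a point along its orbit -/
def Pat (h : F) (l : List (ℕ × Bool)) (q : Fin N) : Prop :=
  ∀ e ∈ l, (Rel q (π (h ^ e.1) q) ↔ e.2 = true)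

theorem comm_apply {g h : F} (hg : g * h = h * g) (k : ℕ) (q : Fin N) :
    π g (π (h ^ k) q) = π (h ^ k) (π g q) := by
  rw [← Equiv.Perm.mul_apply, ← Equiv.Perm.mul_apply, ← map_mul, ← map_mul,
    ((show Commute g h from hg).pow_right k).eq]

theorem pat_map {g h : F} (hg : g * h = h * g) (l : List (ℕ × Bool)) (q : Fin N) :
    Pat h l (π g q) ↔ Pat h l q := by
  refine forall₂_congr fun e _ => ?_
  rw [← comm_apply hg, rel_map]

variable {col : ℕ} {h : F}

theorem candW_iff (hc : ∀ i : Fin N, ((π h i : Fin N) : ℕ) = lk col i) {pc : ℕ}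
    (hok : okPath pc = true) {q : Fin N} (he : endOf pc = q) :
    ∀ l : List (ℕ × Bool), candW col pc q l = true ↔ Pat h l q
  | [] => by simp [candW, Pat]
  | e :: l => by
    obtain ⟨k, b⟩ := e
    have ih := candW_iff hc hok he l
    have hr := relP_iff hok he (π (h ^ k) q)
    rw [π_pow hc] at hr
    simp only [Pat, List.forall_mem_cons, candW] at ih ⊢
    cases b <;> cases hv : relP pc (it col k q) <;> simp_all

theorem repsOk_get {colR : ℕ} {l : List (ℕ × Bool)} {orb : List ℕ} : ∀ (ps : List ℕ) (k : ℕ),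
    repsOk col colR l orb ps k = true → ∀ j < ps.length,
      ∃ pc, repOk col l orb pc (lk colR (k + j)) = true
  | [], _, _, j, hj => by simp at hj
  | pc :: ps, k, h', j, hj => by
    simp only [repsOk, Bool.and_eq_true] at h'
    rcases j with _ | j
    · exact ⟨pc, h'.1⟩
    · obtain ⟨pc', e⟩ := repsOk_get ps (k + 1) h'.2 j (by simpa using hj)
      exact ⟨pc', by rwa [show k + (j + 1) = k + 1 + j by omega]⟩

theorem it_mem {orb : List ℕ} (hcl : orb.all (fun q => orb.any (Nat.beq (lk col q))) = true) :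
    ∀ (i : ℕ) (v : ℕ), v ∈ orb → it col i v ∈ orb
  | 0, _, hv => hv
  | i + 1, v, hv => by
    refine it_mem hcl i _ ?_
    obtain ⟨u, hu, e⟩ := List.any_eq_true.1 (List.all_eq_true.1 hcl v hv)
    rw [Nat.beq_eq] at e
    rwa [e]

/-- the points with the pattern lie in the given orbits -/
theorem pat_mem (hc : ∀ i : Fin N, ((π h i : Fin N) : ℕ) = lk col i) {colR colI m : ℕ}
    {l : List (ℕ × Bool)} {orb : List ℕ}
    (hcov : allBelow N (covAt col colR colI m) = true)
    (hreps : ∀ k < m, ∃ pc, repOk col l orb pc (lk colR k) = true)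
    (hcl : orb.all (fun q => orb.any (Nat.beq (lk col q))) = true)
    {q : Fin N} (hq : Pat h l q) : (q : ℕ) ∈ orb := by
  have hq' := allBelow_spec hcov q q.2
  simp only [covAt, Bool.and_eq_true, Nat.blt_eq, Nat.beq_eq] at hq'
  obtain ⟨hk, hi⟩ := hq'
  obtain ⟨pc, hpc⟩ := hreps _ hk
  simp only [repOk, Bool.and_eq_true, Nat.beq_eq] at hpc
  obtain ⟨⟨hok, he⟩, hcand⟩ := hpc
  rw [← he] at hcand hi
  set r : Fin N := ⟨endOf pc, endOf_lt hok⟩
  set i := Nat.shiftRight (lk colI q) 11 with hidef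
  clear_value i
  clear hidef
  obtain rfl : π (h ^ i) r = q := Fin.ext (by rw [π_pow hc]; exact hi)
  rw [pat_map ((Commute.refl h).pow_left i).eq, ← candW_iff hc hok (q := r) rfl] at hq
  have hq2 : candW col pc (endOf pc) l = true := hq
  rw [hq2, cond_true, List.any_eq_true] at hcand
  obtain ⟨v, hv, e⟩ := hcand
  rw [Nat.beq_eq] at e
  rw [π_pow hc]
  exact it_mem hcl i _ (show endOf pc ∈ orb from e ▸ hv)

theorem closeOk_fix {g : F} : ∀ (l : List (ℕ × ℕ)) (pts : List ℕ), closeOk l pts = true →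
    (∀ p : Fin N, (p : ℕ) ∈ pts → π g p = p) → (∀ r ∈ pts, r < N) → g = 1
  | [], pts, h, hfix, _ => by
    simp only [closeOk, List.all_eq_true, List.any_eq_true, Nat.beq_eq, List.mem_range] at h
    refine eq_one_of_comm fun x => hfix _ ?_
    obtain ⟨p, hp, e⟩ := h (idx x) (idx_lt x)
    exact (show ((gpt x : Fin N) : ℕ) = p from e) ▸ hp
  | (pc, v) :: l, pts, h, hfix, hlt => by
    simp only [closeOk, Bool.and_eq_true, List.any_eq_true, Nat.beq_eq] at h
    obtain ⟨⟨⟨hok, u, hu, hue⟩, v', hv, rfl⟩, hrest⟩ := h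
    have e := π_dP hok (p := ⟨u, hlt u hu⟩) hue ⟨v, hlt v hv⟩
    refine closeOk_fix l _ hrest (fun p hp => ?_) (fun s hs => ?_)
    · rcases List.mem_cons.1 hp with hp | hp
      · obtain rfl : p = π (dq ⟨u, hlt u hu⟩) ⟨v, hlt v hv⟩ := Fin.ext (hp.trans e.symm)
        rw [dq_map, hfix _ hu, hfix _ hv]
      · exact hfix p hp
    · rcases List.mem_cons.1 hs with hs | hs
      · rw [hs, ← e]; exact Fin.isLt _
      · exact hlt s hs

end CfsgLib.Spor.Fi23Norm
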