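import Cfsg.Agent.Lib.Spor.Fi23.OutPoints
import Cfsg.Agent.Lib.Spor.OutKit.Parts
import Cfsg.Agent.Lib.Spor.Fi23Norm.Data
import Cfsg.Agent.Lib.Spor.Fi23Norm.ColA
import Cfsg.Agent.Lib.Spor.Fi23Norm.ColB
import Cfsg.Agent.Lib.Spor.Fi23Norm.ColT
import Cfsg.Agent.Lib.Spor.Fi23Norm.ColRA
import Cfsg.Agent.Lib.Spor.Fi23Norm.ColRB
import Cfsg.Agent.Lib.Spor.Fi23Norm.ColIA
import Cfsg.Agent.Lib.Spor.Fi23Norm.ColIB

/-!
Predicates for the centralisers of the elements of order seventeen and sixteen.
-/

set_option autoImplicit false

namespace CfsgLib.Spor.Fi23Norm

open CfsgLib.PresCert CfsgLib.SporOut.Tab CfsgLib.Spor.Fi23 CfsgLib.Spor.Fi23.Auto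

/-- iterated image under a packed permutation -/
noncomputable def it (c : Nat) : Nat → Nat → Nat
  | 0, i => i
  | k + 1, i => it c k (lk c i)

/-- image under a word in the ten generators and the extra transposition -/
noncomputable def wImg : List Nat → Nat → Nat
  | [], i => i
  | k :: w, i => wImg w (cond (Nat.blt k (nat_lit 10)) (Perm.data.img k i) (lk colT i))

/-- a path from its code, four bits for each letter -/
noncomputable def unpkAux : Nat → Nat → List Nat
  | 0, _ => []
  | f + 1, c =>
    bif Nat.beq c (nat_lit 0) then []
    else Nat.sub (Nat.land c (nat_lit 15)) (nat_lit 1) :: unpkAux f (Nat.shiftRight c (nat_lit 4))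

/-- a path from its code -/
noncomputable def unpk (c : Nat) : List Nat := unpkAux (nat_lit 64) c

/-- the end point of a path -/
noncomputable def endOf (c : Nat) : Nat := Wide.PermData.app Perm.data (unpk c) (nat_lit 0)

/-- the letters of a path are generators -/
noncomputable def okPath (c : Nat) : Bool := (unpk c).all fun k => Nat.blt k (nat_lit 10)

/-- image of a point under the transposition of the end point of a path -/
noncomputable def dP (c v : Nat) : Nat := dImg (unpk c) v

/-- commuting of the transposition of the end point of a path with that of a point -/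
noncomputable def relP (c v : Nat) : Bool := Nat.beq (dP c v) v

/-- image under a word with letters from ten on standing for the transposition of a path -/
noncomputable def xImg (c : Nat) : List Nat → Nat → Nat
  | [], i => i
  | k :: w, i => xImg c w (cond (Nat.blt k (nat_lit 10)) (Perm.data.img k i) (dP c i))

/-- the end point of a path has the given pattern along its orbit -/
noncomputable def candW (col pc q : Nat) : List (Nat × Bool) → Bool
  | [] => true
  | e :: l => cond (cond e.2 (relP pc (it col e.1 q)) (!relP pc (it col e.1 q))) (candW col pc q l) false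

/-- one representative -/
noncomputable def repOk (col : Nat) (l : List (Nat × Bool)) (orb : List Nat) (pc r : Nat) : Bool :=
  okPath pc && Nat.beq (endOf pc) r && cond (candW col pc r l) (orb.any (Nat.beq r)) true

/-- the representatives with positions from `k` on -/
noncomputable def repsOk (col colR : Nat) (l : List (Nat × Bool)) (orb : List Nat) :
    List Nat → Nat → Bool
  | [], _ => true
  | pc :: ps, k => repOk col l orb pc (lk colR k) && repsOk col colR l orb ps (k + 1)

/-- a point is in the orbit of a representative -/
noncomputable def covAt (col colR colI m q : Nat) : Bool :=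
  Nat.blt (Nat.land (lk colI q) (nat_lit 2047)) m &&
    Nat.beq (it col (Nat.shiftRight (lk colI q) (nat_lit 11))
      (lk colR (Nat.land (lk colI q) (nat_lit 2047)))) q

/-- generation from a list of points by conjugation -/
noncomputable def closeOk : List (Nat × Nat) → List Nat → Bool
  | [], pts => (List.range 10).all fun k => pts.any (Nat.beq (elPt k))
  | e :: l, pts =>
    okPath e.1 && pts.any (Nat.beq (endOf e.1)) && pts.any (Nat.beq e.2) &&
      closeOk l (dP e.1 e.2 :: pts)

/-- the new point of a generation step -/
noncomputable def genStep : Nat → Nat → Nat → Nat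
  | 0, c, _ => lk colA (endOf c)
  | 1, c, _ => lk colB (endOf c)
  | _, c, v => dP c v

/-- generation of the group by the two elements and one transposition -/
noncomputable def genOk : List (Nat × Nat × Nat) → List Nat → Bool
  | [], pts => (List.range 10).all fun k => pts.any (Nat.beq (elPt k))
  | e :: l, pts =>
    okPath e.2.1 && pts.any (Nat.beq (endOf e.2.1)) &&
      (Nat.blt e.1 (nat_lit 2) || pts.any (Nat.beq e.2.2)) &&
      genOk l (genStep e.1 e.2.1 e.2.2 :: pts)

/-- the triple invariant separating the base point from the inverse orbit -/
noncomputable def triOk (q : Nat) (pc : Nat × Nat) : Bool :=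
  okPath pc.1 && okPath pc.2 && Nat.beq (endOf pc.1) q &&
    Nat.beq (endOf pc.2) (dP pc.1 (it colB (nat_lit 13) q)) &&
    cond (relP pathRB (it colB (nat_lit 9) (endOf pathXB)))
      (!relP pc.2 (it colB (nat_lit 7) q)) (relP pc.2 (it colB (nat_lit 7) q))

/-- all points of a list satisfy the triple test -/
noncomputable def trisOk : List Nat → List (Nat × Nat) → Bool
  | [], _ => true
  | _ :: _, [] => false
  | q :: qs, p :: ps => triOk q p && trisOk qs ps

/-- the column of the extra transposition -/
noncomputable def tAt (i : Nat) : Bool := Nat.beq (lk colT i) (dImg w5 i)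

/-- the column of the element of order seventeen -/
noncomputable def aAt (i : Nat) : Bool := Nat.beq (lk colA i) (wImg AW i)

/-- the column of the element of order sixteen -/
noncomputable def bAt (i : Nat) : Bool := Nat.beq (lk colB i) (wImg BW i)

/-- the relations between the two elements -/
noncomputable def relsAt (i : Nat) : Bool :=
  Nat.beq (lk colB (lk colA i)) (it colA (nat_lit 3) (lk colB i)) &&
    Nat.beq (it colA (nat_lit 17) i) i && Nat.beq (it colB (nat_lit 16) i) i

end CfsgLib.Spor.Fi23Norm
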