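import Cfsg.Agent.Lib.Spor.Fi23.OutFrame
import Cfsg.Agent.Lib.Spor.Fi23Norm.ChkT
import Cfsg.Agent.Lib.Spor.Fi23Norm.ChkA
import Cfsg.Agent.Lib.Spor.Fi23Norm.ChkB0
import Cfsg.Agent.Lib.Spor.Fi23Norm.ChkB1
import Cfsg.Agent.Lib.Spor.Fi23Norm.ChkB2
import Cfsg.Agent.Lib.Spor.Fi23Norm.ChkB3
import Cfsg.Agent.Lib.Spor.Fi23Norm.ChkB4
import Cfsg.Agent.Lib.Spor.Fi23Norm.ChkB5
import Cfsg.Agent.Lib.Spor.Fi23Norm.ChkB6
import Cfsg.Agent.Lib.Spor.Fi23Norm.ChkB7
import Cfsg.Agent.Lib.Spor.Fi23Norm.ChkR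
import Cfsg.Agent.Lib.Spor.Fi23Norm.ChkS

/-!
The elements and the meaning of the point predicates.
-/

set_option autoImplicit false

namespace CfsgLib.Spor.Fi23Norm

open CfsgLib.PresCert CfsgLib.SporOut.Tab CfsgLib.Spor.Fi23 CfsgLib.Spor.Fi23.Auto Cfsg.Spor

local notation "N" => Perm.data.n
local notation "app" => Wide.PermData.app Perm.data
local notation "F" => Cfsg.Spor.Fi23

theorem endOf_lt {pc : ℕ} (hok : okPath pc = true) : endOf pc < N := by
  simp only [okPath, List.all_eq_true, Nat.blt_eq] at hok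
  exact app_lt hok (by rw [Fi23.degree]; decide)

theorem π_dP {pc : ℕ} (hok : okPath pc = true) {p : Fin N} (he : endOf pc = p) (v : Fin N) :
    ((π (dq p) v : Fin N) : ℕ) = dP pc v := by
  simp only [okPath, List.all_eq_true, Nat.blt_eq] at hok
  exact π_dq hok he v

theorem relP_iff {pc : ℕ} (hok : okPath pc = true) {p : Fin N} (he : endOf pc = p) (v : Fin N) :
    relP pc v = true ↔ Rel p v := by
  rw [relP, ← π_dP hok he, Nat.beq_eq, Auto.Rel, Fin.ext_iff]

theorem dq_map (g : F) (p v : Fin N) : π g (π (dq p) v) = π (dq (π g p)) (π g v) := by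
  have h : g * dq p = dq (π g p) * g := by rw [← conj_dq, inv_mul_cancel_right]
  rw [← Equiv.Perm.mul_apply, ← Equiv.Perm.mul_apply, ← map_mul, ← map_mul, h]

/-- elements agreeing on the points of the generators are equal -/
theorem ext10 {s t : F} (h : ∀ x, π s (gpt x) = π t (gpt x)) : s = t := by
  refine (inv_mul_eq_one.1 (eq_one_of_comm fun x => ?_))
  rw [map_mul, Equiv.Perm.mul_apply, ← h x, map_inv, Equiv.Perm.inv_eq_iff_eq]

theorem ext10' {s t : F} (f g : ℕ → ℕ)
    (hs : ∀ i : Fin N, ((π s i : Fin N) : ℕ) = f i) (ht : ∀ i : Fin N, ((π t i : Fin N) : ℕ) = g i)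
    (h : (List.range 10).all (fun k => Nat.beq (f (elPt k)) (g (elPt k))) = true) : s = t := by
  refine ext10 fun x => Fin.ext ?_
  rw [hs, ht]
  exact Nat.eq_of_beq_eq_true (List.all_eq_true.1 h (idx x) (List.mem_range.2 (idx_lt x)))

/-- the extra transposition -/
noncomputable def tEl : F := dq (ept 10 (by decide))

/-- value of a letter -/
noncomputable def letEl (k : ℕ) : F := if k < 10 then gen (ofIdx k) else tEl

/-- value of a word, the first letter acting first -/
noncomputable def wEl : List ℕ → F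
  | [] => 1
  | k :: w => wEl w * letEl k

/-- the element of order seventeen -/
noncomputable def fA : F := wEl AW

/-- the element of order sixteen -/
noncomputable def fB : F := wEl BW

theorem okE : okPath pathE = true ∧ okPath pathX = true ∧ okPath pathY = true ∧
    wImg WW (elPt 0) = endOf pathE ∧ lk colB (endOf pathE) = endOf pathE := by
  have h := pointE
  simp only [Bool.and_eq_true, Nat.beq_eq] at h
  exact ⟨h.1.1.1.1.1, h.1.1.1.1.2, h.1.1.1.2, h.1.2, h.2⟩

/-- the fixed point of the element of order sixteen -/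
noncomputable def ptE : Fin N := ⟨endOf pathE, endOf_lt okE.1⟩

/-- the involution -/
noncomputable def fE : F := dq ptE

theorem π_tEl (i : Fin N) : ((π tEl i : Fin N) : ℕ) = lk colT i := by
  rw [tEl, π_el 10 (by decide)]
  have h := allBelow_spec t_ok i i.2
  rw [tAt, Nat.beq_eq] at h
  rw [h]
  rfl

theorem π_wEl : ∀ (w : List ℕ) (i : Fin N), ((π (wEl w) i : Fin N) : ℕ) = wImg w i
  | [], i => by simp [wEl, wImg]
  | k :: w, i => by
    rw [wEl, map_mul, Equiv.Perm.mul_apply, π_wEl w, wImg]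
    congr 1
    rw [letEl]
    rcases lt_or_ge k 10 with h | h
    · rw [if_pos h, π_gen, idx_ofIdx k h, show Nat.blt k 10 = true from Nat.blt_eq ▸ h, cond_true]
    · rw [if_neg (not_lt.2 h), π_tEl,
        show Nat.blt k 10 = false from Bool.eq_false_iff.2 (by rw [ne_eq, Nat.blt_eq]; omega),
        cond_false]

theorem wEl_append : ∀ l v : List ℕ, wEl (l ++ v) = wEl v * wEl l
  | [], v => by simp [wEl]
  | k :: l, v => by simp [wEl, wEl_append l v, mul_assoc]

theorem letEl_sq (k : ℕ) : letEl k * letEl k = 1 := by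
  rw [letEl]
  split
  · exact gen_sq _
  · exact dq_sq _

theorem wEl_reverse : ∀ w : List ℕ, wEl w.reverse = (wEl w)⁻¹
  | [] => by simp [wEl]
  | k :: w => by
    rw [List.reverse_cons, wEl_append, wEl_reverse w, wEl, wEl, wEl, one_mul, mul_inv_rev,
      inv_eq_of_mul_eq_one_left (letEl_sq k)]

theorem π_fA (i : Fin N) : ((π fA i : Fin N) : ℕ) = lk colA i := by
  have h := allBelow_spec a_ok i i.2
  rw [aAt, Nat.beq_eq] at h
  rw [fA, π_wEl, h]

theorem π_fB (i : Fin N) : ((π fB i : Fin N) : ℕ) = lk colB i := by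
  have hN : (i : ℕ) < 31671 := lt_of_lt_of_eq i.2 Fi23.degree
  have h : bAt i = true := by
    rcases (by omega : (i : ℕ) < 4000 ∨ 4000 ≤ (i : ℕ) ∧ (i : ℕ) < 8000 ∨
        8000 ≤ (i : ℕ) ∧ (i : ℕ) < 12000 ∨ 12000 ≤ (i : ℕ) ∧ (i : ℕ) < 16000 ∨
        16000 ≤ (i : ℕ) ∧ (i : ℕ) < 20000 ∨ 20000 ≤ (i : ℕ) ∧ (i : ℕ) < 24000 ∨
        24000 ≤ (i : ℕ) ∧ (i : ℕ) < 28000 ∨ 28000 ≤ (i : ℕ)) with h | h | h | h | h | h | h | h
    · exact SporOut.onRange_spec b_ok0 (Nat.zero_le _) (by omega)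
    · exact SporOut.onRange_spec b_ok1 h.1 (by omega)
    · exact SporOut.onRange_spec b_ok2 h.1 (by omega)
    · exact SporOut.onRange_spec b_ok3 h.1 (by omega)
    · exact SporOut.onRange_spec b_ok4 h.1 (by omega)
    · exact SporOut.onRange_spec b_ok5 h.1 (by omega)
    · exact SporOut.onRange_spec b_ok6 h.1 (by omega)
    · exact SporOut.onRange_spec b_ok7 h (by omega)
  rw [bAt, Nat.beq_eq] at h
  rw [fB, π_wEl, h]

theorem π_pow {c : ℕ} {g : F} (h : ∀ i : Fin N, ((π g i : Fin N) : ℕ) = lk c i) :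
    ∀ (k : ℕ) (i : Fin N), ((π (g ^ k) i : Fin N) : ℕ) = it c k i
  | 0, i => by simp [it]
  | k + 1, i => by
    rw [pow_succ, map_mul, Equiv.Perm.mul_apply, π_pow h k, h, it]

theorem rels (x : Fi23.Gen) : lk colB (lk colA (gpt x : ℕ)) = it colA 3 (lk colB (gpt x : ℕ)) ∧
    it colA 17 (gpt x : ℕ) = gpt x ∧ it colB 16 (gpt x : ℕ) = gpt x := by
  have h := List.all_eq_true.1 rels_ok (idx x) (List.mem_range.2 (idx_lt x))
  simp only [relsAt, Bool.and_eq_true, Nat.beq_eq] at h
  exact ⟨h.1.1, h.1.2, h.2⟩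

theorem fA_pow : fA ^ 17 = 1 := by
  refine ext10 fun x => Fin.ext ?_
  rw [π_pow π_fA, map_one, Equiv.Perm.one_apply]
  exact (rels x).2.1

theorem fB_conj : fB * fA * fB⁻¹ = fA ^ 3 := by
  rw [mul_inv_eq_iff_eq_mul]
  refine ext10 fun x => Fin.ext ?_
  rw [map_mul, map_mul, Equiv.Perm.mul_apply, Equiv.Perm.mul_apply, π_fB, π_pow π_fA, π_fA, π_fB]
  exact (rels x).1

theorem fB_pow : fB ^ 16 = 1 := by
  refine ext10 fun x => Fin.ext ?_
  rw [π_pow π_fB, map_one, Equiv.Perm.one_apply]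
  exact (rels x).2.2

theorem fB_ptE : π fB ptE = ptE := by
  refine Fin.ext ?_
  rw [π_fB]
  exact okE.2.2.2.2

theorem fE_comm : fB * fE = fE * fB := by
  rw [fE, ← mul_inv_eq_iff_eq_mul, conj_dq, fB_ptE]

theorem fE_sq : fE * fE = 1 := dq_sq _

theorem π_fE (i : Fin N) : ((π fE i : Fin N) : ℕ) = dP pathE i := π_dP okE.1 (p := ptE) rfl i

/-- value of a letter, 11 standing for the transposition of a path -/
noncomputable def xLet {c : ℕ} (hc : okPath c = true) (k : ℕ) : F :=
  if k < 10 then gen (ofIdx k) else dq ⟨endOf c, endOf_lt hc⟩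

/-- value of a word with such letters -/
noncomputable def xEl {c : ℕ} (hc : okPath c = true) : List ℕ → F
  | [] => 1
  | k :: w => xEl hc w * xLet hc k

theorem π_xEl {c : ℕ} (hc : okPath c = true) : ∀ (w : List ℕ) (i : Fin N),
    ((π (xEl hc w) i : Fin N) : ℕ) = xImg c w i
  | [], i => by simp [xEl, xImg]
  | k :: w, i => by
    rw [xEl, map_mul, Equiv.Perm.mul_apply, π_xEl hc w, xImg]
    congr 1
    rw [xLet]
    rcases lt_or_ge k 10 with h | h
    · rw [if_pos h, π_gen, idx_ofIdx k h, show Nat.blt k 10 = true from Nat.blt_eq ▸ h, cond_true]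
    · rw [if_neg (not_lt.2 h), π_dP hc rfl,
        show Nat.blt k 10 = false from Bool.eq_false_iff.2 (by rw [ne_eq, Nat.blt_eq]; omega),
        cond_false]

/-- the element carrying the point of the first generator to the fixed point -/
noncomputable def fW : F := wEl WW

theorem fW_pt : π fW (gpt .a) = ptE := by
  refine Fin.ext ?_
  rw [fW, π_wEl]
  exact okE.2.2.2.1

/-- the conjugate of the element of order sixteen as a product of transpositions -/
theorem fB_conjW : xEl okE.2.1 BPW = fW⁻¹ * fB * fW := by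
  refine ext10' (xImg pathX BPW) (fun i => wImg WW.reverse (lk colB (wImg WW i)))
    (π_xEl _ _) (fun i => ?_) conjW
  rw [fW, ← wEl_reverse, map_mul, map_mul, Equiv.Perm.mul_apply, Equiv.Perm.mul_apply, π_wEl,
    π_fB, π_wEl]

theorem fB_conjH : xEl okE.2.2.1 ((BPW.filter fun l => !(Nat.beq l 0)) ++ [0]) * wEl HW =
    wEl HW * fB ^ 15 := by
  refine ext10' (fun i => xImg pathY ((BPW.filter fun l => !(Nat.beq l 0)) ++ [0]) (wImg HW i))
    (fun i => wImg HW (it colB 15 i)) (fun i => ?_) (fun i => ?_) conjH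
  · rw [map_mul, Equiv.Perm.mul_apply, π_xEl, π_wEl]
  · rw [map_mul, Equiv.Perm.mul_apply, π_wEl, π_pow π_fB]

theorem genOk_mem {K : Subgroup F} (hA : fA ∈ K) (hB : fB ∈ K) :
    ∀ (l : List (ℕ × ℕ × ℕ)) (pts : List ℕ), genOk l pts = true →
      (∀ p : Fin N, (p : ℕ) ∈ pts → dq p ∈ K) → (∀ r ∈ pts, r < N) → K = ⊤
  | [], pts, h, hK, _ => by
    simp only [genOk, List.all_eq_true, List.any_eq_true, Nat.beq_eq, List.mem_range] at h
    rw [eq_top_iff, ← closure_gen, Subgroup.closure_le]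
    rintro _ ⟨x, rfl⟩
    obtain ⟨p, hp, e⟩ := h (idx x) (idx_lt x)
    have := hK (gpt x) ((show ((gpt x : Fin N) : ℕ) = p from e) ▸ hp)
    rwa [dq_gpt] at this
  | (o, pc, v) :: l, pts, h, hK, hlt => by
    simp only [genOk, Bool.and_eq_true, Bool.or_eq_true, List.any_eq_true, Nat.beq_eq,
      Nat.blt_eq] at h
    obtain ⟨⟨⟨hok, u, hu, hue⟩, hv⟩, hrest⟩ := h
    let p : Fin N := ⟨u, hlt u hu⟩
    have key : ∃ q : Fin N, (q : ℕ) = genStep o pc v ∧ dq q ∈ K := by
      match o, hv with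
      | 0, _ => exact ⟨π fA p, by rw [π_fA, genStep, hue], by
          rw [← conj_dq]; exact K.mul_mem (K.mul_mem hA (hK p hu)) (K.inv_mem hA)⟩
      | 1, _ => exact ⟨π fB p, by rw [π_fB, genStep, hue], by
          rw [← conj_dq]; exact K.mul_mem (K.mul_mem hB (hK p hu)) (K.inv_mem hB)⟩
      | o + 2, hv =>
        obtain ⟨v', hv', e⟩ := hv.resolve_left (by omega)
        subst e
        refine ⟨π (dq p) ⟨v, hlt v hv'⟩, by rw [π_dP hok hue]; rfl, ?_⟩
        rw [← conj_dq]
        exact K.mul_mem (K.mul_mem (hK p hu) (hK _ hv')) (K.inv_mem (hK p hu))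
    obtain ⟨q, hq, hqK⟩ := key
    refine genOk_mem hA hB l _ hrest (fun r hr => ?_) (fun r hr => ?_)
    · rcases List.mem_cons.1 hr with hr | hr
      · exact (Fin.ext (hr.trans hq.symm) : r = q) ▸ hqK
      · exact hK r hr
    · rcases List.mem_cons.1 hr with hr | hr
      · rw [hr, ← hq]; exact q.2
      · exact hlt r hr

theorem closure_fABE : Subgroup.closure ({fA, fB, fE} : Set F) = ⊤ := by
  refine genOk_mem (Subgroup.subset_closure (by simp)) (Subgroup.subset_closure (by simp)) _ _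
    gen_ok (fun p hp => ?_) (fun r hr => ?_)
  · obtain rfl : p = ptE := Fin.ext (List.mem_singleton.1 hp)
    exact Subgroup.subset_closure (by simp [fE])
  · rw [List.mem_singleton.1 hr]; exact endOf_lt okE.1

end CfsgLib.Spor.Fi23Norm
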