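import Cfsg.Agent.Lib.Spor.Fi23Norm.Defs

/-!
Further words and tests for the automorphisms of Fi24.
-/

set_option autoImplicit false
set_option Elab.async false

namespace CfsgLib.Spor.Fi23Norm

open CfsgLib.PresCert CfsgLib.SporOut CfsgLib.Spor.Fi23 CfsgLib.Spor.Fi23.Auto

/-- a shorter word of an element conjugate to the fifth power of the element of order sixteen -/
def BW0 : List Nat := [4, 8, 9, 4, 2, 3, 1, 7, 8, 3, 6, 4, 2, 1, 0, 7, 3, 8, 4, 2, 9, 5, 3, 2, 6, 1, 9, 2, 1, 2, 4]

/-- a word of the conjugating element -/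
def HB : List Nat := [9, 8, 9, 10, 8, 2, 10, 8, 9, 1, 2, 3, 2, 1, 0, 8, 3, 2, 1, 9, 8, 10, 2, 8, 9, 10, 8, 3, 4, 3, 2, 1, 0, 8, 3, 2, 4, 3, 9, 8, 3, 2, 1, 0, 5, 4, 3, 2, 1, 0, 8, 3, 4, 5, 9, 8, 3, 2, 1, 10, 8, 3, 2, 4, 3, 5, 8, 9, 6, 5, 4, 3, 2, 1, 0, 7, 8, 3, 2, 1, 4, 3, 9, 8, 10, 2, 1, 3, 4, 8]

/-- a word from the point of the first generator to the point of the further transposition -/
def CX : List Nat := [1, 2, 3, 4, 5, 6, 7, 8, 3, 2, 1, 4, 3, 5, 4, 6, 5, 8, 3, 4]

/-- a word from the point of the first generator to the point of the last transposition -/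
def CY : List Nat := [1, 2, 3, 4, 5, 6, 7, 8, 3, 2, 1, 4, 3, 2, 5, 4, 3, 6, 5, 4]

/-- iterated image under the product of the element of order seventeen and a map -/
noncomputable def itAE (f : Nat → Nat) : Nat → Nat → Nat
  | 0, i => i
  | k + 1, i => itAE f k (Tab.lk colA (f i))

/-- only the point of the second generator is moved alike by it and by the letters commuting with it -/
noncomputable def sameAt (q : Nat) : Bool :=
  ([3, 4, 5, 6, 7, 8, 9].any fun x => !Nat.beq (Perm.data.img x q) (Perm.data.img 1 q)) ||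
    Nat.beq q (elPt 1)

/-- only the point of the first generator is fixed by the letters from the third on -/
noncomputable def fixAt (q : Nat) : Bool :=
  ([2, 3, 4, 5, 6, 7, 8, 9].any fun x => !Nat.beq (Perm.data.img x q) q) || Nat.beq q (elPt 0)

end CfsgLib.Spor.Fi23Norm
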