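import Cfsg.Agent.Lib.Spor.Fi23Norm.Cent
import Cfsg.Agent.Lib.Spor.Fi23Norm.ChkE0
import Cfsg.Agent.Lib.Spor.Fi23Norm.ChkE1

/-!
Facts about Fi23 used for the automorphisms of Fi24.
-/

set_option autoImplicit false

namespace CfsgLib.Spor.Fi23Norm

open CfsgLib.PresCert CfsgLib.SporOut.Tab CfsgLib.Spor.Fi23 CfsgLib.Spor.Fi23.Auto Cfsg.Spor

local notation "N" => Perm.data.n
local notation "F" => Cfsg.Spor.Fi23

/-- the short element of order sixteen -/
noncomputable def fB0 : F := wEl BW0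

/-- the conjugating element -/
noncomputable def fH : F := wEl HB

theorem fB0_conj : fH * fB0 * fH⁻¹ = fB ^ 5 := by
  rw [mul_inv_eq_iff_eq_mul]
  refine ext10' (fun i => wImg HB (wImg BW0 i)) (fun i => it colB 5 (wImg HB i))
    (fun i => ?_) (fun i => ?_) conjB
  · rw [map_mul, Equiv.Perm.mul_apply, fH, fB0, π_wEl, π_wEl]
  · rw [map_mul, Equiv.Perm.mul_apply, fH, π_pow π_fB, π_wEl]

theorem π_itAE {g : F} {f : ℕ → ℕ} (hg : ∀ i : Fin N, ((π g i : Fin N) : ℕ) = f i) :
    ∀ (k : ℕ) (i : Fin N), ((π ((fA * g) ^ k) i : Fin N) : ℕ) = itAE f k i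
  | 0, i => by simp [itAE]
  | k + 1, i => by
    rw [pow_succ, map_mul, Equiv.Perm.mul_apply, π_itAE hg k, map_mul, Equiv.Perm.mul_apply,
      π_fA, hg, itAE]

theorem fAE_pow : (fA * fE) ^ 10 = 1 := by
  refine ext10' (itAE (fun i => dP pathE i) 10) id (π_itAE π_fE 10) (fun i => ?_) ordAE
  rw [map_one, Equiv.Perm.one_apply]; rfl

theorem fAEB_pow : (fA * (fE * fB ^ 8)) ^ 10 ≠ 1 := by
  intro e
  obtain ⟨k, hk, hne⟩ := List.any_eq_true.1 ordAEB
  rw [List.mem_range] at hk
  have hlt : elPt k < N := genPts_lt k (by omega)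
  have h := π_itAE (g := fE * fB ^ 8) (f := fun i => dP pathE (it colB 8 i))
    (fun i => by rw [map_mul, Equiv.Perm.mul_apply, π_fE, π_pow π_fB]) 10 ⟨elPt k, hlt⟩
  rw [e, map_one, Equiv.Perm.one_apply] at h
  simp only [Bool.not_eq_true'] at hne
  exact Nat.ne_of_beq_eq_false hne h.symm

theorem fE_ne (i : ℕ) (hi : i < 16) : fE ≠ fB ^ i := by
  intro e
  have h := List.all_eq_true.1 orbB_sep i (List.mem_range.2 hi)
  simp only [Bool.not_eq_true'] at h
  refine Nat.ne_of_beq_eq_false h ?_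
  rw [← (list_B hi).1, show (16 : ℕ) = 16 + 0 from rfl, ← (list_B (i := 0) (by omega)).2, e,
    pow_zero, mul_one]

theorem words_ok : (∀ k ∈ BW0, k < 10) ∧ (∀ k ∈ AW, k < 10) ∧ (∀ k ∈ CX, k < 10) ∧
    (∀ k ∈ CY, k < 10) ∧ (∀ k ∈ BPW, k ≠ 1 ∧ (k < 10 ∨ k = 11)) := by
  have h := ptsXY
  simp only [Bool.and_eq_true, List.all_eq_true, Bool.not_eq_true', Nat.beq_eq, Nat.blt_eq,
    Bool.or_eq_true, List.mem_append] at h
  obtain ⟨⟨⟨⟨-, hc⟩, hb⟩, ha⟩, hp⟩ := h
  exact ⟨hb, ha, fun k hk => hc k (Or.inl hk), fun k hk => hc k (Or.inr hk), fun k hk =>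
    ⟨fun e => Nat.ne_of_beq_eq_false (hp k hk).1 e, (hp k hk).2⟩⟩

/-- the further transposition as a conjugate of the first generator -/
theorem dq_X : wEl CX * gen .a * (wEl CX)⁻¹ = dq ⟨endOf pathX, endOf_lt okE.2.1⟩ := by
  rw [← dq_gpt .a, conj_dq]
  refine congrArg dq (Fin.ext ?_)
  rw [π_wEl]
  have h := ptsXY
  simp only [Bool.and_eq_true, Nat.beq_eq] at h
  exact h.1.1.1.1.1.1

/-- the last transposition as a conjugate of the first generator -/
theorem dq_Y : wEl CY * gen .a * (wEl CY)⁻¹ = dq ⟨endOf pathY, endOf_lt okE.2.2.1⟩ := by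
  rw [← dq_gpt .a, conj_dq]
  refine congrArg dq (Fin.ext ?_)
  rw [π_wEl]
  have h := ptsXY
  simp only [Bool.and_eq_true, Nat.beq_eq] at h
  exact h.1.1.1.1.1.2

theorem comm_Y : Commute (gen .a) (dq (⟨endOf pathY, endOf_lt okE.2.2.1⟩ : Fin N)) := by
  have h := ptsXY
  simp only [Bool.and_eq_true] at h
  have hr := (relP_iff okE.2.2.1 (p := ⟨endOf pathY, endOf_lt okE.2.2.1⟩) rfl (gpt .a)).1
    h.1.1.1.1.2
  have e : dq (⟨endOf pathY, endOf_lt okE.2.2.1⟩ : Fin N) * gen .a *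
      (dq (⟨endOf pathY, endOf_lt okE.2.2.1⟩ : Fin N))⁻¹ = gen .a := by
    rw [← dq_gpt .a, conj_dq, hr]
  exact (mul_inv_eq_iff_eq_mul.1 e).symm

theorem comm_fix {s : F} {y : Fi23.Gen} (h : π s (gpt y) = gpt y) : s * gen y = gen y * s := by
  rw [← mul_inv_eq_iff_eq_mul, ← dq_gpt, conj_dq, h]

theorem fix_comm {s : F} {y : Fi23.Gen} (h : s * gen y = gen y * s) (q : Fin N)
    (hq : π (gen y) q = q) : π (gen y) (π s q) = π s q := by
  rw [← Equiv.Perm.mul_apply, ← map_mul, ← h, map_mul, Equiv.Perm.mul_apply, hq]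

/-- only the identity commutes with the products of the second generator with the later ones -/
theorem eq_one_of_comm_pairs {s : F}
    (h : ∀ x : Fi23.Gen, 2 ≤ idx x → s * (gen x * gen .b) = gen x * gen .b * s) : s = 1 := by
  have hxb : ∀ x : Fi23.Gen, 3 ≤ idx x → π (gen x) (gpt .b) = gpt .b := by
    intro x hx
    refine Fin.ext ?_
    rw [π_gen]
    have : ∀ k < 10, 3 ≤ k → Perm.data.img k (elPt 1) = elPt 1 := by decide +kernel
    exact this _ (idx_lt x) hx
  have hb : π (gen .b) (gpt .b) = gpt .b := by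
    refine Fin.ext ?_
    rw [π_gen]
    decide +kernel
  have inv : ∀ (y : Fi23.Gen) (v : Fin N), π (gen y) (π (gen y) v) = v := fun y v => by
    rw [← Equiv.Perm.mul_apply, ← map_mul, gen_sq, map_one, Equiv.Perm.one_apply]
  have hs : π s (gpt .b) = gpt .b := by
    have hq : ∀ x : Fi23.Gen, 3 ≤ idx x →
        π (gen x) (π s (gpt .b)) = π (gen .b) (π s (gpt .b)) := by
      intro x hx
      have e := congrArg (fun g => π g (gpt .b)) (h x (by omega))
      simp only [map_mul, Equiv.Perm.mul_apply, hb, hxb x hx] at e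
      calc π (gen x) (π s (gpt .b))
          = π (gen x) (π (gen x) (π (gen .b) (π s (gpt .b)))) := by rw [← e]
        _ = π (gen .b) (π s (gpt .b)) := inv x _
    have hA := allBelow_spec same_ok _ (π s (gpt .b)).2
    simp only [sameAt, Bool.or_eq_true, List.any_eq_true, Bool.not_eq_true', Nat.beq_eq] at hA
    rcases hA with ⟨k, hk, hne⟩ | hA
    · have h3 : 3 ≤ k ∧ k < 10 := by clear hne; revert k; decide
      have e := congrArg Fin.val (hq (ofIdx k) (by rw [idx_ofIdx k h3.2]; exact h3.1))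
      rw [π_gen, π_gen, idx_ofIdx k h3.2] at e
      exact absurd e (Nat.ne_of_beq_eq_false hne)
    · exact Fin.ext hA
  have cb : s * gen .b = gen .b * s := comm_fix hs
  have cx : ∀ x : Fi23.Gen, 2 ≤ idx x → s * gen x = gen x * s := by
    intro x hx
    calc s * gen x = s * (gen x * gen .b) * gen .b := by
          rw [mul_assoc, mul_assoc, gen_sq, mul_one]
      _ = gen x * gen .b * (s * gen .b) := by rw [h x hx, mul_assoc]
      _ = gen x * gen .b * (gen .b * s) := by rw [cb]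
      _ = gen x * s := by rw [mul_assoc, ← mul_assoc (gen .b), gen_sq, one_mul]
  have hsa : π s (gpt .a) = gpt .a := by
    have hfa : ∀ k < 10, 2 ≤ k → Perm.data.img k (elPt 0) = elPt 0 := by decide +kernel
    have hA := allBelow_spec fix_ok _ (π s (gpt .a)).2
    simp only [fixAt, Bool.or_eq_true, List.any_eq_true, Bool.not_eq_true', Nat.beq_eq] at hA
    rcases hA with ⟨k, hk, hne⟩ | hA
    · have h2 : 2 ≤ k ∧ k < 10 := by clear hne; revert k; decide
      have hfix : π (gen (ofIdx k)) (gpt .a) = gpt .a := Fin.ext (by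
        rw [π_gen, idx_ofIdx k h2.2]; exact hfa k h2.2 h2.1)
      have e := congrArg Fin.val
        (fix_comm (cx (ofIdx k) (by rw [idx_ofIdx k h2.2]; exact h2.1)) _ hfix)
      rw [π_gen, idx_ofIdx k h2.2] at e
      exact absurd e (Nat.ne_of_beq_eq_false hne)
    · exact Fin.ext hA
  refine eq_one_of_comm fun x => ?_
  have key : ∀ y : Fi23.Gen, s * gen y = gen y * s → π s (gpt y) = gpt y := by
    intro y e
    refine dq_injective ?_
    rw [← conj_dq, dq_gpt, e, mul_inv_cancel_right]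
  rcases (by omega : idx x = 0 ∨ idx x = 1 ∨ 2 ≤ idx x) with hx | hx | hx
  · obtain rfl : x = .a := by cases x <;> simp_all [idx]
    exact hsa
  · obtain rfl : x = .b := by cases x <;> simp_all [idx]
    exact hs
  · exact key x (cx x hx)

end CfsgLib.Spor.Fi23Norm
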